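import Mathlib
import Cfsg.Agent.Lib.Helper40.ParLabel

/-!
# Steinberg character values (S2425): shared definitions
-/

set_option autoImplicit false

namespace Cfsg.Agent.Helper40.StVal

open Cfsg Cfsg.Agent.Helper40.Par Polynomial

/-- the set of non-zero partial sums of a composition (the dimensions of the members of its flags) -/
def dimSet {n : ℕ} (μ : Fin n → ℕ) : Finset ℕ :=
  (Finset.univ.image (fun j : Fin n => pS μ (j.val + 1))).erase 0

section EqHom

variable {F V : Type*} [Field F] [AddCommGroup V] [Module F V]

/-- `T`-equivariant linear maps between two `T`-invariant subspaces -/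
def EqHom (T : Module.End F V) (A S : Submodule F V) (hA : A ∈ T.invtSubmodule)
    (hS : S ∈ T.invtSubmodule) : Type _ :=
  {φ : ↥A →ₗ[F] ↥S // ∀ v, φ (LinearMap.restrict T hA v) = LinearMap.restrict T hS (φ v)}

/-- `T`-invariant complements of `S` in `W` -/
def Compl (T : Module.End F V) (S W : Submodule F V) : Type _ :=
  {U : Submodule F V // U ∈ T.invtSubmodule ∧ Disjoint U S ∧ U ⊔ S = W}

end EqHom

open Classical in
/-- the expected value of the Möbius function of the lattice of invariant subspaces of a semisimple
endomorphism with characteristic polynomial `g` over a field with `q` elements -/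
noncomputable def muVal {F : Type*} [Field F] (q : ℕ) (g : F[X]) : ℤ :=
  ∏ f ∈ (UniqueFactorizationMonoid.normalizedFactors g).toFinset,
    (-1 : ℤ) ^ (UniqueFactorizationMonoid.normalizedFactors g).count f *
      ((q : ℤ) ^ f.natDegree) ^ ((UniqueFactorizationMonoid.normalizedFactors g).count f).choose 2

end Cfsg.Agent.Helper40.StVal
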