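import Mathlib
import Cfsg.Agent.Lib.Helper40.StVal.Defs
import Cfsg.Agent.Lib.Helper95.STVK
import Cfsg.Agent.Lib.Helper86.STVH
import Cfsg.Agent.Lib.Helper86.STVG
import Cfsg.Agent.Lib.Helper8.STVT
import Cfsg.Agent.Lib.Helper8.STVV
import Cfsg.Agent.Lib.Helper99.STVA
import Cfsg.Agent.Lib.Helper99.STVC
import Cfsg.Agent.Lib.Helper78.STVP
import Cfsg.Agent.Lib.Helper78.STVS1

/-!
# S2425 lemma server "STV" (helper40): the delivered pieces, re-exported under one namespace.
(K) helper95, (H) (G) helper86, (T) (V) helper8, (A) (C) helper99, (P) (S1) helper78.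
-/

set_option autoImplicit false

namespace Cfsg.Agent.Helper40.StVal

open Cfsg Cfsg.Agent.Helper40.Par Cfsg.Agent.Helper40.StVal Polynomial

/-- **(K) Hessenberg permutations.** -/
theorem hessenberg_sum {R : Type*} [CommRing R] (n : ℕ) (hn : 1 ≤ n) (Ψ : Finset ℕ → R) :
    (∑ κ : Equiv.Perm (Fin n), (if ∀ i : Fin n, (κ i).val ≤ 1 + i.val then
        ((Equiv.Perm.sign κ : ℤ) : R) * Ψ (dimSet (fun i : Fin n => 1 + i.val - (κ i).val)) else 0)) =
    ∑ D ∈ (Finset.Icc 1 n).powerset.filter (fun D => n ∈ D), (-1 : R) ^ (n - D.card) * Ψ D :=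
  Cfsg.Agent.Helper95.STV.hessenberg_sum n hn Ψ

open Classical in
/-- **(H) Philip Hall's theorem.** -/
theorem hall {α : Type*} [PartialOrder α] [OrderBot α] [LocallyFiniteOrder α] [DecidableEq α]
    [Fintype α] (b : α) (hb : b ≠ ⊥) :
    IncidenceAlgebra.mu ℤ ⊥ b =
      ∑ C ∈ (Finset.univ : Finset (Finset α)).filter
        (fun C : Finset α => IsChain (· ≤ ·) (C : Set α) ∧ ⊥ ∉ C ∧ b ∈ C ∧ ∀ c ∈ C, c ≤ b), (-1 : ℤ) ^ C.card :=
  Cfsg.Agent.Helper86.STV.hall b hb

open Classical in
/-- **(T) `GL_n` is transitive on chains of subspaces with the same dimensions.** -/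
theorem exists_gl_map_chain {F : Type*} [Field F] {n : ℕ}
    (C C' : Finset (Submodule F (Fin n → F)))
    (hC : IsChain (· ≤ ·) (C : Set (Submodule F (Fin n → F))))
    (hC' : IsChain (· ≤ ·) (C' : Set (Submodule F (Fin n → F))))
    (hdim : C.image (fun W : Submodule F (Fin n → F) => Module.finrank F W) =
      C'.image (fun W : Submodule F (Fin n → F) => Module.finrank F W)) :
    ∃ g : GL (Fin n) F,
      C.image (fun W : Submodule F (Fin n → F) =>
        W.map (Matrix.toLin' (g : Matrix (Fin n) (Fin n) F))) = C' :=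
  Cfsg.Agent.Helper8.STV.exists_gl_map_chain C C' hC hC' hdim

section Mod

variable {F V : Type*} [Field F] [AddCommGroup V] [Module F V] [FiniteDimensional F V]

/-- **(A) the characteristic polynomial of `T` on a minimal invariant subspace is irreducible.** -/
theorem atom_charpoly_irreducible (T : Module.End F V) (S : Submodule F V)
    (hS : S ∈ T.invtSubmodule) (hS0 : S ≠ ⊥)
    (hmin : ∀ U ∈ T.invtSubmodule, U ≤ S → U = ⊥ ∨ U = S) :
    Irreducible (LinearMap.charpoly (LinearMap.restrict T hS)) :=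
  Cfsg.Agent.Helper99.STV.atom_charpoly_irreducible T S hS hS0 hmin

/-- **(C) the characteristic polynomial on a direct sum of invariant subspaces.** -/
theorem charpoly_restrict_sup (T : Module.End F V) (A B : Submodule F V)
    (hA : A ∈ T.invtSubmodule) (hB : B ∈ T.invtSubmodule) (hAB : A ⊔ B ∈ T.invtSubmodule)
    (hdisj : Disjoint A B) :
    (LinearMap.restrict T (p := A ⊔ B) (q := A ⊔ B) hAB).charpoly =
      (LinearMap.restrict T hA).charpoly * (LinearMap.restrict T hB).charpoly :=
  Cfsg.Agent.Helper99.STV.charpoly_restrict_sup T A B hA hB hAB hdisj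

open Classical in
/-- **(S1) equivariant maps between minimal invariant subspaces.** -/
theorem card_eqHom_atoms [Fintype F] (T : Module.End F V) (S' S : Submodule F V)
    (hS' : S' ∈ T.invtSubmodule) (hS : S ∈ T.invtSubmodule) (hS'0 : S' ≠ ⊥) (hS0 : S ≠ ⊥)
    (hmin' : ∀ U ∈ T.invtSubmodule, U ≤ S' → U = ⊥ ∨ U = S')
    (hmin : ∀ U ∈ T.invtSubmodule, U ≤ S → U = ⊥ ∨ U = S) :
    Nat.card (EqHom T S' S hS' hS) =
      if (LinearMap.restrict T hS').charpoly = (LinearMap.restrict T hS).charpoly then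
        Fintype.card F ^ Module.finrank F S else 1 :=
  Cfsg.Agent.Helper78.STV.card_eqHom_atoms T S' S hS' hS hS'0 hS0 hmin' hmin

/-- **(P) equivariant maps out of a direct sum.** -/
theorem card_eqHom_sup (T : Module.End F V) (A B S : Submodule F V)
    (hA : A ∈ T.invtSubmodule) (hB : B ∈ T.invtSubmodule) (hAB : A ⊔ B ∈ T.invtSubmodule)
    (hS : S ∈ T.invtSubmodule) (hdisj : Disjoint A B) :
    Nat.card (EqHom T (A ⊔ B) S hAB hS) =
      Nat.card (EqHom T A S hA hS) * Nat.card (EqHom T B S hB hS) :=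
  Cfsg.Agent.Helper78.STV.card_eqHom_sup T A B S hA hB hAB hS hdisj

/-- **(G) invariant complements are graphs of equivariant maps.** -/
theorem card_compl_eq_card_eqHom (T : Module.End F V) (S U₀ : Submodule F V)
    (hS : S ∈ T.invtSubmodule) (hU₀ : U₀ ∈ T.invtSubmodule) (hdisj : Disjoint U₀ S) :
    Nat.card (Compl T S (U₀ ⊔ S)) = Nat.card (EqHom T U₀ S hU₀ hS) :=
  Cfsg.Agent.Helper86.STV.card_compl_eq_card_eqHom T S U₀ hS hU₀ hdisj

end Mod

open Classical in
/-- **(V) the recursion of the expected value.** -/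
theorem muVal_mul_irreducible {F : Type*} [Field F] (q : ℕ) (f g : F[X]) (hf : Irreducible f)
    (hfm : f.Monic) (hg : g.Monic) :
    muVal q (f * g) =
      -((q : ℤ) ^ (f.natDegree * Multiset.count f (UniqueFactorizationMonoid.normalizedFactors g))) *
        muVal q g :=
  Cfsg.Agent.Helper8.STV.muVal_mul_irreducible q f g hf hfm hg

end Cfsg.Agent.Helper40.StVal
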