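import Mathlib
import Cfsg.Agent.Lib.Helper40.FlagPerm
import Cfsg.Agent.Lib.Helper40.ParCard
import Cfsg.Agent.Lib.Helper40.StVal.Pieces

/-!
# Fixed points of the parabolic permutation characters of `GL_n` = stable chains of subspaces
-/

set_option autoImplicit false
set_option linter.unusedSectionVars false
set_option linter.unusedVariables false
set_option linter.unusedSimpArgs false

namespace Cfsg.Agent.Helper40.StVal

open Cfsg Cfsg.Agent.Helper40.Par Cfsg.Agent.Helper40.Flag Module

variable {F : Type*} [Field F] {n : ℕ}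

/-- the action of `GL_n` on subspaces -/
noncomputable def mapS (g : GL (Fin n) F) (W : Submodule F (Fin n → F)) : Submodule F (Fin n → F) :=
  W.map (Matrix.toLin' (g : Matrix (Fin n) (Fin n) F))

theorem mapS_one (W : Submodule F (Fin n → F)) : mapS (1 : GL (Fin n) F) W = W := by
  unfold mapS
  rw [Units.val_one, Matrix.toLin'_one]
  exact Submodule.map_id W

theorem mapS_mul (g h : GL (Fin n) F) (W : Submodule F (Fin n → F)) :
    mapS (g * h) W = mapS g (mapS h W) := by
  unfold mapS
  rw [Units.val_mul, Matrix.toLin'_mul, Submodule.map_comp]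

theorem mapS_inv_mapS (g : GL (Fin n) F) (W : Submodule F (Fin n → F)) :
    mapS g⁻¹ (mapS g W) = W := by
  rw [← mapS_mul, inv_mul_cancel, mapS_one]

theorem mapS_mapS_inv (g : GL (Fin n) F) (W : Submodule F (Fin n → F)) :
    mapS g (mapS g⁻¹ W) = W := by
  rw [← mapS_mul, mul_inv_cancel, mapS_one]

theorem mapS_mono (g : GL (Fin n) F) {W W' : Submodule F (Fin n → F)} (h : W ≤ W') :
    mapS g W ≤ mapS g W' := Submodule.map_mono h

theorem mapS_injective (g : GL (Fin n) F) : Function.Injective (mapS (F := F) (n := n) g) := by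
  intro W W' h
  have := congrArg (mapS g⁻¹) h
  rwa [mapS_inv_mapS, mapS_inv_mapS] at this

theorem finrank_mapS (g : GL (Fin n) F) (W : Submodule F (Fin n → F)) :
    finrank F (mapS g W) = finrank F W := by
  apply le_antisymm
  · exact Submodule.finrank_map_le _ _
  · have h := Submodule.finrank_map_le
      (Matrix.toLin' ((g⁻¹ : GL (Fin n) F) : Matrix (Fin n) (Fin n) F)) (mapS g W)
    have h2 : Submodule.map (Matrix.toLin' ((g⁻¹ : GL (Fin n) F) : Matrix (Fin n) (Fin n) F))
        (mapS g W) = W := mapS_inv_mapS g W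
    rw [h2] at h
    exact h

theorem mapS_bot (g : GL (Fin n) F) : mapS g (⊥ : Submodule F (Fin n → F)) = ⊥ := Submodule.map_bot _

/-- members of a chain are determined by their dimension -/
theorem chain_eq_of_finrank_eq {C : Set (Submodule F (Fin n → F))} (hC : IsChain (· ≤ ·) C)
    {W W' : Submodule F (Fin n → F)} (hW : W ∈ C) (hW' : W' ∈ C)
    (h : finrank F W = finrank F W') : W = W' := by
  rcases hC.total hW hW' with hle | hle
  · exact Submodule.eq_of_le_of_finrank_eq hle h
  · exact (Submodule.eq_of_le_of_finrank_eq hle h.symm).symm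

section

open Classical

theorem chain_image_mapS (g : GL (Fin n) F) {C : Finset (Submodule F (Fin n → F))}
    (hC : IsChain (· ≤ ·) (C : Set (Submodule F (Fin n → F)))) :
    IsChain (· ≤ ·) ((C.image (mapS g) : Finset _) : Set (Submodule F (Fin n → F))) := by
  intro a ha b hb _
  rw [Finset.mem_coe, Finset.mem_image] at ha hb
  obtain ⟨W, hW, rfl⟩ := ha
  obtain ⟨W', hW', rfl⟩ := hb
  rcases hC.total (Finset.mem_coe.2 hW) (Finset.mem_coe.2 hW') with h | h
  · exact Or.inl (mapS_mono g h)
  · exact Or.inr (mapS_mono g h)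

theorem image_finrank_image_mapS (g : GL (Fin n) F) (C : Finset (Submodule F (Fin n → F))) :
    (C.image (mapS g)).image (fun W : Submodule F (Fin n → F) => finrank F W) =
      C.image (fun W : Submodule F (Fin n → F) => finrank F W) := by
  rw [Finset.image_image]
  apply Finset.image_congr
  intro W _
  exact finrank_mapS g W

theorem image_mapS_eq_self_iff (x : GL (Fin n) F) {C : Finset (Submodule F (Fin n → F))}
    (hC : IsChain (· ≤ ·) (C : Set (Submodule F (Fin n → F)))) :
    C.image (mapS x) = C ↔ ∀ W ∈ C, mapS x W = W := by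
  constructor
  · intro h W hW
    have h1 : mapS x W ∈ C := by
      rw [← h]
      exact Finset.mem_image_of_mem _ hW
    exact chain_eq_of_finrank_eq hC (Finset.mem_coe.2 h1) (Finset.mem_coe.2 hW) (finrank_mapS x W)
  · intro h
    have : C.image (mapS x) = C.image id := Finset.image_congr (fun W hW => h W hW)
    rw [this, Finset.image_id]

theorem mapS_eq_self_iff (x : GL (Fin n) F) (W : Submodule F (Fin n → F)) :
    mapS x W = W ↔
      W ∈ Module.End.invtSubmodule (Matrix.toLin' (x : Matrix (Fin n) (Fin n) F)) := by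
  rw [Module.End.mem_invtSubmodule_iff_map_le]
  constructor
  · intro h
    exact le_of_eq h
  · intro h
    exact Submodule.eq_of_le_of_finrank_eq h (finrank_mapS x W)

end

/-- the standard coordinate subspaces of a composition -/
def stdE (F : Type*) [Field F] (μ : Fin n → ℕ) (s : ℕ) : Submodule F (Fin n → F) :=
  coordSub F (fun i : Fin n => compLabel μ i ≤ s)

theorem stdE_mono (μ : Fin n → ℕ) {s s' : ℕ} (h : s ≤ s') : stdE F μ s ≤ stdE F μ s' := by
  intro v hv i hi
  apply hv i
  omega

theorem finrank_stdE {μ : Fin n → ℕ} (hμ : ∑ i, μ i = n) (s : Fin n) :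
    finrank F (stdE F μ s.val) = pS μ (s.val + 1) := by
  classical
  unfold stdE
  rw [finrank_coordSub]
  exact card_label_le hμ s.val s.isLt

theorem mem_parabolic_iff {μ : Fin n → ℕ} (hμ : ∑ i, μ i = n) (g : GL (Fin n) F) :
    g ∈ parabolicGL n F μ ↔ ∀ s : Fin n, mapS g (stdE F μ s.val) ≤ stdE F μ s.val := by
  constructor
  · intro hg s
    exact le_of_eq (map_eq_of_mem_parabolic μ g hg s.val)
  · intro h
    change (g : Matrix (Fin n) (Fin n) F).BlockTriangular (compLabel μ)
    intro i j hij
    have hj : compLabel μ j < n := (label_spec hμ j).1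
    have h1 : (Pi.single j (1 : F) : Fin n → F) ∈ stdE F μ (compLabel μ j) := by
      intro k hk
      have : k ≠ j := fun hkj => hk (by rw [hkj])
      rw [Pi.single_apply, if_neg this]
    have h2 : Matrix.toLin' (g : Matrix (Fin n) (Fin n) F) (Pi.single j (1 : F)) ∈
        stdE F μ (compLabel μ j) :=
      h ⟨compLabel μ j, hj⟩ ⟨_, h1, rfl⟩
    have h3 := h2 i (by omega)
    rw [Matrix.toLin'_apply, Matrix.mulVec_single_one] at h3
    exact h3

section

open Classical

/-- the standard chain of a composition -/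
noncomputable def stdC (F : Type*) [Field F] (μ : Fin n → ℕ) : Finset (Submodule F (Fin n → F)) :=
  (Finset.univ.image (fun s : Fin n => stdE F μ s.val)).erase ⊥

theorem stdC_chain (μ : Fin n → ℕ) :
    IsChain (· ≤ ·) ((stdC F μ : Finset _) : Set (Submodule F (Fin n → F))) := by
  intro a ha b hb _
  rw [Finset.mem_coe, stdC, Finset.mem_erase, Finset.mem_image] at ha hb
  obtain ⟨-, s, -, rfl⟩ := ha
  obtain ⟨-, s', -, rfl⟩ := hb
  rcases le_total s.val s'.val with h | h
  · exact Or.inl (stdE_mono μ h)
  · exact Or.inr (stdE_mono μ h)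

theorem stdC_dims {μ : Fin n → ℕ} (hμ : ∑ i, μ i = n) :
    (stdC F μ).image (fun W : Submodule F (Fin n → F) => finrank F W) = dimSet μ := by
  ext d
  unfold stdC dimSet
  simp only [Finset.mem_image, Finset.mem_erase, Finset.mem_univ, true_and]
  constructor
  · rintro ⟨W, ⟨hW0, s, rfl⟩, rfl⟩
    rw [finrank_stdE hμ s]
    refine ⟨?_, s, rfl⟩
    rw [← finrank_stdE (F := F) hμ s]
    intro h0
    exact hW0 (Submodule.finrank_eq_zero.1 h0)
  · rintro ⟨hd, s, rfl⟩
    refine ⟨stdE F μ s.val, ⟨?_, s, rfl⟩, finrank_stdE hμ s⟩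
    intro h0
    apply hd
    rw [← finrank_stdE (F := F) hμ s, h0, finrank_bot]

theorem mem_parabolic_iff_stdC {μ : Fin n → ℕ} (hμ : ∑ i, μ i = n) (g : GL (Fin n) F) :
    g ∈ parabolicGL n F μ ↔ ∀ W ∈ stdC F μ, mapS g W = W := by
  constructor
  · intro hg W hW
    rw [stdC, Finset.mem_erase, Finset.mem_image] at hW
    obtain ⟨-, s, -, rfl⟩ := hW
    exact map_eq_of_mem_parabolic μ g hg s.val
  · intro h
    rw [mem_parabolic_iff hμ]
    intro s
    by_cases h0 : stdE F μ s.val = ⊥
    · rw [h0, mapS_bot]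
    · apply le_of_eq
      apply h
      rw [stdC, Finset.mem_erase, Finset.mem_image]
      exact ⟨h0, s, Finset.mem_univ _, rfl⟩

/-- the flag of a coset -/
noncomputable def flagOf {μ : Fin n → ℕ} (hμ : ∑ i, μ i = n)
    (q : GL (Fin n) F ⧸ parabolicGL n F μ) : Finset (Submodule F (Fin n → F)) :=
  Quotient.liftOn' q (fun g => (stdC F μ).image (mapS g)) (by
    intro a b hab
    rw [QuotientGroup.leftRel_apply] at hab
    apply Finset.image_congr
    intro W hW
    have h1 := (mem_parabolic_iff_stdC hμ _).1 hab W (Finset.mem_coe.1 hW)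
    change mapS a W = mapS b W
    have h2 : b = a * (a⁻¹ * b) := by group
    rw [h2, mapS_mul, h1])

theorem flagOf_mk {μ : Fin n → ℕ} (hμ : ∑ i, μ i = n) (g : GL (Fin n) F) :
    flagOf hμ (g : GL (Fin n) F ⧸ parabolicGL n F μ) = (stdC F μ).image (mapS g) := rfl

theorem flagOf_smul {μ : Fin n → ℕ} (hμ : ∑ i, μ i = n) (x : GL (Fin n) F)
    (q : GL (Fin n) F ⧸ parabolicGL n F μ) :
    flagOf hμ (x • q) = (flagOf hμ q).image (mapS x) := by
  induction q using QuotientGroup.induction_on with
  | H g =>
    rw [MulAction.Quotient.smul_mk, flagOf_mk, flagOf_mk, Finset.image_image]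
    apply Finset.image_congr
    intro W _
    exact mapS_mul x g W

theorem flagOf_chain {μ : Fin n → ℕ} (hμ : ∑ i, μ i = n)
    (q : GL (Fin n) F ⧸ parabolicGL n F μ) :
    IsChain (· ≤ ·) ((flagOf hμ q : Finset _) : Set (Submodule F (Fin n → F))) := by
  induction q using QuotientGroup.induction_on with
  | H g =>
    rw [flagOf_mk]
    exact chain_image_mapS g (stdC_chain μ)

theorem flagOf_dims {μ : Fin n → ℕ} (hμ : ∑ i, μ i = n)
    (q : GL (Fin n) F ⧸ parabolicGL n F μ) :
    (flagOf hμ q).image (fun W : Submodule F (Fin n → F) => finrank F W) = dimSet μ := by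
  induction q using QuotientGroup.induction_on with
  | H g =>
    rw [flagOf_mk, image_finrank_image_mapS, stdC_dims hμ]

theorem flagOf_injective {μ : Fin n → ℕ} (hμ : ∑ i, μ i = n) :
    Function.Injective (flagOf (F := F) hμ) := by
  intro q q' h
  induction q using QuotientGroup.induction_on with
  | H g =>
  induction q' using QuotientGroup.induction_on with
  | H g' =>
    rw [flagOf_mk, flagOf_mk] at h
    rw [QuotientGroup.eq, mem_parabolic_iff_stdC hμ, ← image_mapS_eq_self_iff _ (stdC_chain μ)]
    have h1 := congrArg (Finset.image (mapS g⁻¹)) h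
    rw [Finset.image_image, Finset.image_image] at h1
    have h2 : (stdC F μ).image (mapS g⁻¹ ∘ mapS g) = stdC F μ := by
      have : (stdC F μ).image (mapS g⁻¹ ∘ mapS g) = (stdC F μ).image id :=
        Finset.image_congr (fun W _ => mapS_inv_mapS g W)
      rw [this, Finset.image_id]
    rw [h2] at h1
    have h3 : (stdC F μ).image (mapS (g⁻¹ * g')) = (stdC F μ).image (mapS g⁻¹ ∘ mapS g') :=
      Finset.image_congr (fun W _ => mapS_mul g⁻¹ g' W)
    rw [h3]
    exact h1.symm

theorem flagOf_surjective {μ : Fin n → ℕ} (hμ : ∑ i, μ i = n)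
    (C : Finset (Submodule F (Fin n → F)))
    (hC : IsChain (· ≤ ·) (C : Set (Submodule F (Fin n → F))))
    (hdim : C.image (fun W : Submodule F (Fin n → F) => finrank F W) = dimSet μ) :
    ∃ q, flagOf hμ q = C := by
  obtain ⟨g, hg⟩ := exists_gl_map_chain (stdC F μ) C (stdC_chain μ) hC
    (by rw [stdC_dims hμ, hdim])
  exact ⟨(g : GL (Fin n) F ⧸ parabolicGL n F μ), hg⟩

/-- fixed points of the parabolic permutation character = stable chains -/
theorem fixedPointCharacter_parabolic {μ : Fin n → ℕ} (hμ : ∑ i, μ i = n) (x : GL (Fin n) F) :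
    fixedPointCharacter (parabolicGL n F μ) x =
      (Nat.card {C : Finset (Submodule F (Fin n → F)) //
        IsChain (· ≤ ·) (C : Set (Submodule F (Fin n → F))) ∧
        (∀ W ∈ C, W ∈ Module.End.invtSubmodule (Matrix.toLin' (x : Matrix (Fin n) (Fin n) F))) ∧
        C.image (fun W : Submodule F (Fin n → F) => finrank F W) = dimSet μ} : ℂ) := by
  unfold fixedPointCharacter
  congr 1
  apply Nat.card_congr
  have hfix : ∀ q : GL (Fin n) F ⧸ parabolicGL n F μ,
      q ∈ MulAction.fixedBy (GL (Fin n) F ⧸ parabolicGL n F μ) x ↔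
        ∀ W ∈ flagOf hμ q,
          W ∈ Module.End.invtSubmodule (Matrix.toLin' (x : Matrix (Fin n) (Fin n) F)) := by
    intro q
    rw [MulAction.mem_fixedBy]
    constructor
    · intro h W hW
      have h1 := flagOf_smul hμ x q
      rw [h] at h1
      rw [← mapS_eq_self_iff]
      exact (image_mapS_eq_self_iff x (flagOf_chain hμ q)).1 h1.symm W hW
    · intro h
      apply flagOf_injective hμ
      rw [flagOf_smul]
      rw [image_mapS_eq_self_iff x (flagOf_chain hμ q)]
      intro W hW
      rw [mapS_eq_self_iff]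
      exact h W hW
  refine Equiv.ofBijective (fun q => ⟨flagOf hμ q.1, flagOf_chain hμ q.1, (hfix q.1).1 q.2,
    flagOf_dims hμ q.1⟩) ⟨?_, ?_⟩
  · intro q q' h
    apply Subtype.ext
    apply flagOf_injective hμ
    exact congrArg Subtype.val h
  · rintro ⟨C, hC, hinv, hdim⟩
    obtain ⟨q, hq⟩ := flagOf_surjective hμ C hC hdim
    refine ⟨⟨q, (hfix q).2 ?_⟩, Subtype.ext hq⟩
    rw [hq]
    exact hinv

end

end Cfsg.Agent.Helper40.StVal
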