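import Mathlib

/-!
# Weisner's theorem for the Möbius function of a finite lattice (interval form)
-/

set_option autoImplicit false

namespace Cfsg.Agent.Helper40.StVal

open Finset

/-- **Weisner's theorem**: for `⊥ < c ≤ b` the sum of `μ(⊥, w)` over the `w ≤ b` with `w ⊔ c = b` vanishes. -/
theorem weisner {α : Type*} [Lattice α] [OrderBot α] [LocallyFiniteOrder α] [DecidableEq α]
    (b c : α) (hc : c ≠ ⊥) (hcb : c ≤ b) :
    ∑ w ∈ (Icc ⊥ b).filter (fun w => w ⊔ c = b), IncidenceAlgebra.mu ℤ ⊥ w = 0 := by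
  classical
  rw [sum_filter]
  have h1 : ∀ w ∈ Icc (⊥ : α) b, (if w ⊔ c = b then IncidenceAlgebra.mu ℤ ⊥ w else 0) =
      ∑ z ∈ Icc (w ⊔ c) b, IncidenceAlgebra.mu ℤ ⊥ w * IncidenceAlgebra.mu ℤ z b := by
    intro w _
    rw [← mul_sum, IncidenceAlgebra.sum_Icc_mu_left]
    split_ifs <;> simp
  rw [sum_congr rfl h1]
  rw [sum_comm' (s' := fun z => Icc ⊥ z) (t' := Icc c b)]
  · apply sum_eq_zero
    intro z hz
    rw [← sum_mul, IncidenceAlgebra.sum_Icc_mu_right]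
    have hz' : (⊥ : α) ≠ z := by
      intro h
      rw [← h, mem_Icc] at hz
      exact hc (le_bot_iff.1 hz.1)
    rw [if_neg hz', zero_mul]
  · intro w z
    simp only [mem_Icc, bot_le, true_and, sup_le_iff]
    constructor
    · rintro ⟨-, ⟨h1, h2⟩, h3⟩
      exact ⟨h1, h2, h3⟩
    · rintro ⟨h1, h2, h3⟩
      exact ⟨le_trans h1 h3, ⟨h1, h2⟩, h3⟩

end Cfsg.Agent.Helper40.StVal
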