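import Mathlib
import Cfsg.Agent.Lib.Helper40.StVal.Weisner
import Cfsg.Agent.Lib.Helper40.StVal.Pieces

/-!
# The Möbius function of the lattice of invariant subspaces of a semisimple endomorphism
-/

set_option autoImplicit false
set_option linter.unusedSectionVars false
set_option linter.unusedVariables false
set_option linter.unusedSimpArgs false

namespace Cfsg.Agent.Helper40.StVal

open Polynomial Module Finset UniqueFactorizationMonoid

section

variable {F V : Type*} [Field F] [AddCommGroup V] [Module F V] [FiniteDimensional F V]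
  (T : Module.End F V)

/-- relative invariant complements exist -/
def RelCompl : Prop :=
  ∀ p ∈ T.invtSubmodule, ∀ q ∈ T.invtSubmodule, q ≤ p →
    ∃ r ∈ T.invtSubmodule, r ≤ p ∧ Disjoint q r ∧ q ⊔ r = p

/-- the characteristic polynomial of the restriction -/
noncomputable def cp (U : Submodule F V) (hU : U ∈ T.invtSubmodule) : F[X] :=
  (LinearMap.restrict T hU).charpoly

theorem cp_congr {A B : Submodule F V} (h : A = B) (hA : A ∈ T.invtSubmodule)
    (hB : B ∈ T.invtSubmodule) : cp T A hA = cp T B hB := by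
  subst h
  rfl

theorem cp_monic (U : Submodule F V) (hU : U ∈ T.invtSubmodule) : (cp T U hU).Monic :=
  LinearMap.charpoly_monic _

theorem cp_natDegree (U : Submodule F V) (hU : U ∈ T.invtSubmodule) :
    (cp T U hU).natDegree = finrank F U :=
  LinearMap.charpoly_natDegree _

theorem cp_bot (h : (⊥ : Submodule F V) ∈ T.invtSubmodule) : cp T ⊥ h = 1 := by
  apply Polynomial.eq_one_of_monic_natDegree_zero (cp_monic T _ _)
  rw [cp_natDegree]
  exact finrank_bot F V

theorem cp_sup (A B : Submodule F V) (hA : A ∈ T.invtSubmodule) (hB : B ∈ T.invtSubmodule)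
    (hAB : A ⊔ B ∈ T.invtSubmodule) (hdisj : Disjoint A B) :
    cp T (A ⊔ B) hAB = cp T A hA * cp T B hB :=
  charpoly_restrict_sup T A B hA hB hAB hdisj

/-- minimal invariant subspaces -/
def IsAtomInv (S : Submodule F V) : Prop :=
  S ∈ T.invtSubmodule ∧ S ≠ ⊥ ∧ ∀ U ∈ T.invtSubmodule, U ≤ S → U = ⊥ ∨ U = S

theorem exists_atom (U : Submodule F V) (hU : U ∈ T.invtSubmodule) (hU0 : U ≠ ⊥) :
    ∃ S, IsAtomInv T S ∧ S ≤ U := by
  classical
  have hex : ∃ k, ∃ S ∈ T.invtSubmodule, S ≤ U ∧ S ≠ ⊥ ∧ finrank F S = k :=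
    ⟨_, U, hU, le_rfl, hU0, rfl⟩
  obtain ⟨S, hS, hSU, hS0, hk⟩ := Nat.find_spec hex
  refine ⟨S, ⟨hS, hS0, ?_⟩, hSU⟩
  intro U' hU' hle
  by_cases h0 : U' = ⊥
  · exact Or.inl h0
  · right
    have h1 : Nat.find hex ≤ finrank F U' :=
      Nat.find_min' hex ⟨U', hU', le_trans hle hSU, h0, rfl⟩
    exact Submodule.eq_of_le_of_finrank_le hle (by rw [hk]; exact h1)

theorem finrank_sup_of_disjoint (A B : Submodule F V) (h : Disjoint A B) :
    finrank F ↥(A ⊔ B) = finrank F A + finrank F B := by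
  have := Submodule.finrank_sup_add_finrank_inf_eq A B
  rw [h.eq_bot, finrank_bot, add_zero] at this
  exact this

theorem finrank_pos_of_ne_bot (A : Submodule F V) (h : A ≠ ⊥) : 0 < finrank F A := by
  rw [Nat.pos_iff_ne_zero]
  intro h0
  exact h (Submodule.finrank_eq_zero.1 h0)

open Classical in
theorem nf_mul_irreducible (f g : F[X]) (hf : Irreducible f) (hfm : f.Monic) (hg : g.Monic) :
    normalizedFactors (f * g) = {f} + normalizedFactors g := by
  rw [normalizedFactors_mul hfm.ne_zero hg.ne_zero, normalizedFactors_irreducible hf,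
    hfm.normalize_eq_self]

open Classical in
theorem nf_one : normalizedFactors (1 : F[X]) = 0 := normalizedFactors_one

variable [Fintype F]

open Classical in
/-- the number of equivariant maps into a minimal invariant subspace -/
theorem card_eqHom (hss : RelCompl T) (S : Submodule F V) (hS : IsAtomInv T S) :
    ∀ (k : ℕ) (U : Submodule F V) (hU : U ∈ T.invtSubmodule), finrank F U = k →
      Nat.card (EqHom T U S hU hS.1) =
        Fintype.card F ^ (finrank F S *
          Multiset.count (cp T S hS.1) (normalizedFactors (cp T U hU))) := by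
  intro k
  induction k using Nat.strong_induction_on with
  | _ k ih =>
  intro U hU hk
  by_cases hU0 : U = ⊥
  · subst hU0
    rw [cp_bot, nf_one, Multiset.count_zero, mul_zero, pow_zero]
    rw [Nat.card_eq_one_iff_unique]
    refine ⟨⟨fun φ ψ => ?_⟩, ⟨⟨0, fun v => by simp⟩⟩⟩
    apply Subtype.ext
    apply LinearMap.ext
    intro v
    have hv : v = 0 := Subsingleton.elim _ _
    rw [hv, map_zero, map_zero]
  · obtain ⟨S', hS', hS'U⟩ := exists_atom T U hU hU0
    obtain ⟨U₁, hU₁, hU₁le, hdisj, hsup⟩ := hss U hU S' hS'.1 hS'U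
    subst hsup
    rw [card_eqHom_sup T S' U₁ S hS'.1 hU₁ hU hS.1 hdisj]
    have hlt : finrank F U₁ < k := by
      rw [← hk, finrank_sup_of_disjoint S' U₁ hdisj]
      have := finrank_pos_of_ne_bot S' hS'.2.1
      omega
    rw [ih _ hlt U₁ hU₁ rfl, card_eqHom_atoms T S' S hS'.1 hS.1 hS'.2.1 hS.2.1 hS'.2.2 hS.2.2]
    have hirr : Irreducible (cp T S' hS'.1) :=
      atom_charpoly_irreducible T S' hS'.1 hS'.2.1 hS'.2.2
    rw [cp_sup T S' U₁ hS'.1 hU₁ hU hdisj,
      nf_mul_irreducible _ _ hirr (cp_monic T _ _) (cp_monic T _ _), Multiset.count_add,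
      Multiset.count_singleton]
    change (if cp T S' hS'.1 = cp T S hS.1 then _ else _) * _ = _
    by_cases h : cp T S' hS'.1 = cp T S hS.1
    · rw [if_pos h, if_pos h.symm, mul_add, pow_add, mul_one]
    · rw [if_neg h, if_neg (fun h' => h h'.symm), one_mul, zero_add]


theorem muVal_one (q : ℕ) : muVal q (1 : F[X]) = 1 := by
  classical
  unfold muVal
  rw [normalizedFactors_one]
  simp

/-- the Möbius function of the lattice of invariant subspaces -/
theorem mu_invt [LocallyFiniteOrder ↥T.invtSubmodule] [DecidableEq ↥T.invtSubmodule]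
    (hss : RelCompl T) :
    ∀ (k : ℕ) (W : Submodule F V) (hW : W ∈ T.invtSubmodule), finrank F W = k →
      IncidenceAlgebra.mu ℤ (⊥ : ↥T.invtSubmodule) ⟨W, hW⟩ =
        muVal (Fintype.card F) (cp T W hW) := by
  intro k
  induction k using Nat.strong_induction_on with
  | _ k ih =>
  intro W hW hk
  by_cases hW0 : W = ⊥
  · subst hW0
    rw [cp_bot, muVal_one]
    have h1 : (⟨⊥, hW⟩ : ↥T.invtSubmodule) = ⊥ := rfl
    rw [h1, IncidenceAlgebra.mu_self]
  · obtain ⟨S, hS, hSW⟩ := exists_atom T W hW hW0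
    obtain ⟨U₀, hU₀, hU₀le, hdisj, hsup⟩ := hss W hW S hS.1 hSW
    have hcne : (⟨S, hS.1⟩ : ↥T.invtSubmodule) ≠ ⊥ := by
      intro h
      exact hS.2.1 (congrArg Subtype.val h)
    have hcb : (⟨S, hS.1⟩ : ↥T.invtSubmodule) ≤ ⟨W, hW⟩ := hSW
    have hwe := weisner (⟨W, hW⟩ : ↥T.invtSubmodule) ⟨S, hS.1⟩ hcne hcb
    -- properties of the members of the filter other than `W`
    have hmem : ∀ w : ↥T.invtSubmodule,
        w ∈ (Icc ⊥ (⟨W, hW⟩ : ↥T.invtSubmodule)).filter (fun w => w ⊔ ⟨S, hS.1⟩ = ⟨W, hW⟩) →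
        w ≠ ⟨W, hW⟩ → Disjoint w.1 S ∧ w.1 ⊔ S = W := by
      intro w hw hne
      rw [mem_filter] at hw
      have h2 : w.1 ⊔ S = W := congrArg Subtype.val hw.2
      refine ⟨?_, h2⟩
      rw [disjoint_iff]
      rcases hS.2.2 (w.1 ⊓ S) (Module.End.invtSubmodule.inf_mem w.2 hS.1) inf_le_right with h | h
      · exact h
      · exfalso
        apply hne
        apply Subtype.ext
        change w.1 = W
        rw [← h2]
        exact (sup_eq_left.2 (inf_eq_right.1 h)).symm
    -- the Möbius value on them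
    have hcpW : cp T W hW = cp T S hS.1 * cp T U₀ hU₀ := by
      rw [← cp_sup T S U₀ hS.1 hU₀ (by rw [hsup]; exact hW) hdisj]
      exact cp_congr T hsup.symm _ _
    have hval : ∀ w : ↥T.invtSubmodule,
        w ∈ (Icc ⊥ (⟨W, hW⟩ : ↥T.invtSubmodule)).filter (fun w => w ⊔ ⟨S, hS.1⟩ = ⟨W, hW⟩) →
        w ≠ ⟨W, hW⟩ → IncidenceAlgebra.mu ℤ (⊥ : ↥T.invtSubmodule) w =
          muVal (Fintype.card F) (cp T U₀ hU₀) := by
      intro w hw hne
      obtain ⟨hd, hs⟩ := hmem w hw hne
      have hlt : finrank F w.1 < k := by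
        have h3 := finrank_sup_of_disjoint w.1 S hd
        rw [hs, hk] at h3
        have := finrank_pos_of_ne_bot S hS.2.1
        omega
      have h4 := ih _ hlt w.1 w.2 rfl
      have h5 : cp T w.1 w.2 = cp T U₀ hU₀ := by
        have h6 : cp T W hW = cp T w.1 w.2 * cp T S hS.1 := by
          rw [← cp_sup T w.1 S w.2 hS.1 (by rw [hs]; exact hW) hd]
          exact cp_congr T hs.symm _ _
        rw [hcpW, mul_comm] at h6
        exact (mul_right_cancel₀ (cp_monic T S hS.1).ne_zero h6).symm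
      rw [← h5]
      exact h4
    -- split the sum
    have hbmem : (⟨W, hW⟩ : ↥T.invtSubmodule) ∈
        (Icc ⊥ (⟨W, hW⟩ : ↥T.invtSubmodule)).filter (fun w => w ⊔ ⟨S, hS.1⟩ = ⟨W, hW⟩) := by
      rw [mem_filter, mem_Icc]
      exact ⟨⟨bot_le, le_rfl⟩, sup_eq_left.2 hcb⟩
    rw [← Finset.add_sum_erase _ _ hbmem] at hwe
    have hsum : ∑ w ∈ ((Icc ⊥ (⟨W, hW⟩ : ↥T.invtSubmodule)).filter
        (fun w => w ⊔ ⟨S, hS.1⟩ = ⟨W, hW⟩)).erase ⟨W, hW⟩,
          IncidenceAlgebra.mu ℤ (⊥ : ↥T.invtSubmodule) w =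
        (((Icc ⊥ (⟨W, hW⟩ : ↥T.invtSubmodule)).filter
          (fun w => w ⊔ ⟨S, hS.1⟩ = ⟨W, hW⟩)).erase ⟨W, hW⟩).card •
            muVal (Fintype.card F) (cp T U₀ hU₀) := by
      rw [← Finset.sum_const]
      apply Finset.sum_congr rfl
      intro w hw
      rw [mem_erase] at hw
      exact hval w hw.2 hw.1
    rw [hsum] at hwe
    -- the cardinality
    have hcard : (((Icc ⊥ (⟨W, hW⟩ : ↥T.invtSubmodule)).filter
          (fun w => w ⊔ ⟨S, hS.1⟩ = ⟨W, hW⟩)).erase ⟨W, hW⟩).card =
        Nat.card (Compl T S W) := by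
      rw [← Nat.card_eq_finsetCard]
      apply Nat.card_congr
      refine ⟨fun w => ⟨w.1.1, w.1.2, hmem w.1 (mem_erase.1 w.2).2 (mem_erase.1 w.2).1⟩,
        fun U => ⟨⟨U.1, U.2.1⟩, ?_⟩, fun w => rfl, fun U => rfl⟩
      rw [mem_erase, mem_filter, mem_Icc]
      refine ⟨?_, ⟨bot_le, ?_⟩, ?_⟩
      · intro h
        have h7 : U.1 = W := congrArg Subtype.val h
        have h8 := U.2.2.1
        rw [h7] at h8
        exact hS.2.1 (h8.eq_bot_of_ge hSW)
      · change U.1 ≤ W
        exact le_trans le_sup_left (le_of_eq U.2.2.2)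
      · apply Subtype.ext
        exact U.2.2.2
    rw [hcard] at hwe
    have hG : Nat.card (Compl T S W) = Nat.card (EqHom T U₀ S hU₀ hS.1) := by
      have h9 : W = U₀ ⊔ S := by rw [sup_comm]; exact hsup.symm
      rw [h9]
      exact card_compl_eq_card_eqHom T S U₀ hS.1 hU₀ hdisj.symm
    rw [hG, card_eqHom T hss S hS _ U₀ hU₀ rfl] at hwe
    have hirr : Irreducible (cp T S hS.1) :=
      atom_charpoly_irreducible T S hS.1 hS.2.1 hS.2.2
    rw [hcpW, muVal_mul_irreducible _ _ _ hirr (cp_monic T _ _) (cp_monic T _ _), cp_natDegree]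
    rw [nsmul_eq_mul] at hwe
    push_cast at hwe
    linear_combination hwe

end

end Cfsg.Agent.Helper40.StVal
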