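import Mathlib
import Cfsg.Agent.Lib.Helper40.StVal.Mob
import Cfsg.Agent.Lib.Helper40.StVal.Flag

/-!
# The values of the Steinberg character of `GL_n(q)` at `p`-regular elements: assembly
-/

set_option autoImplicit false
set_option linter.unusedSectionVars false
set_option linter.unusedVariables false
set_option linter.unusedSimpArgs false

namespace Cfsg.Agent.Helper40.StVal

open Cfsg Cfsg.Agent.Helper40.Par Polynomial Module Finset UniqueFactorizationMonoid

section arith

variable {F : Type*} [Field F]

open Classical in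
theorem nf_monic (g f : F[X]) (hf : f ∈ normalizedFactors g) : f.Monic := by
  have h1 := normalize_normalized_factor f hf
  have h2 : f ≠ 0 := (irreducible_of_normalized_factor f hf).ne_zero
  rw [← h1]
  exact monic_normalize h2

open Classical in
theorem nf_natDegree_pos (g f : F[X]) (hf : f ∈ normalizedFactors g) : 0 < f.natDegree :=
  Polynomial.natDegree_pos_iff_degree_pos.2
    (Polynomial.degree_pos_of_irreducible (irreducible_of_normalized_factor f hf))

open Classical in
theorem natDegree_eq_sum_nf (g : F[X]) (hg : g.Monic) :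
    g.natDegree = ∑ f ∈ (normalizedFactors g).toFinset,
      (normalizedFactors g).count f * f.natDegree := by
  have hm : ∀ f ∈ normalizedFactors g, f.Monic := fun f hf => nf_monic g f hf
  have h0 : (normalizedFactors g).prod.Monic := by
    have := monic_multiset_prod_of_monic (normalizedFactors g) id hm
    rwa [Multiset.map_id] at this
  have h1 : (normalizedFactors g).prod = g :=
    eq_of_monic_of_associated h0 hg (prod_normalizedFactors hg.ne_zero)
  conv_lhs => rw [← h1]
  rw [natDegree_multiset_prod_of_monic _ hm, Finset.sum_multiset_map_count]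
  simp only [smul_eq_mul]

open Classical in
/-- the sign and exponent bookkeeping -/
theorem muVal_arith (q : ℕ) (g : F[X]) (hg : g.Monic) :
    ((-1 : ℂ)) ^ g.natDegree * ((muVal q g : ℤ) : ℂ) =
      ∏ f ∈ (normalizedFactors g).toFinset,
        (-1 : ℂ) ^ ((f.natDegree - 1) * (normalizedFactors g).count f) *
          (q : ℂ) ^ (f.natDegree * (normalizedFactors g).count f *
            ((normalizedFactors g).count f - 1) / 2) := by
  unfold muVal
  conv_lhs => rw [natDegree_eq_sum_nf g hg]
  rw [← Finset.prod_pow_eq_pow_sum]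
  push_cast
  rw [← Finset.prod_mul_distrib]
  apply Finset.prod_congr rfl
  intro f hf
  have hf' : f ∈ normalizedFactors g := Multiset.mem_toFinset.1 hf
  have hd := nf_natDegree_pos g f hf'
  generalize Multiset.count f (normalizedFactors g) = m
  generalize f.natDegree = d at hd
  have e1 : (-1 : ℂ) ^ (m * d) * (-1 : ℂ) ^ m = (-1 : ℂ) ^ ((d - 1) * m) := by
    rw [← pow_add]
    have : m * d + m = (d - 1) * m + 2 * m := by
      obtain ⟨d', hd'⟩ : ∃ d', d = d' + 1 := ⟨d - 1, by omega⟩
      rw [hd', Nat.add_sub_cancel]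
      ring
    rw [this, pow_add, pow_mul (-1 : ℂ) 2 m]
    simp
  have e2 : ((q : ℂ) ^ d) ^ (m.choose 2) = (q : ℂ) ^ (d * m * (m - 1) / 2) := by
    rw [← pow_mul, Nat.choose_two_right, mul_assoc d m (m - 1),
      Nat.mul_div_assoc d (Nat.even_mul_pred_self m).two_dvd]
  rw [← e1, ← e2]
  ring

end arith

section semisimple

variable {F V : Type*} [Field F] [AddCommGroup V] [Module F V] [FiniteDimensional F V]

theorem relCompl_of_pow_eq_one (T : Module.End F V) (N : ℕ) (hN : (N : F) ≠ 0)
    (hT : T ^ N = 1) : RelCompl T := by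
  have hsq : Squarefree (X ^ N - C (1 : F)) :=
    (separable_X_pow_sub_C 1 hN one_ne_zero).squarefree
  have hss : T.IsSemisimple :=
    Module.End.isSemisimple_of_squarefree_aeval_eq_zero hsq (by simp [hT])
  intro p hp q hq hqp
  obtain ⟨r, hrp, hr, hd, hs⟩ :=
    (Module.End.isSemisimple_restrict_iff p hp).1 (hss.restrict hp) q hq hqp
  exact ⟨r, hr, hrp, hd, hs⟩

theorem cp_top (T : Module.End F V) (h : (⊤ : Submodule F V) ∈ T.invtSubmodule) :
    cp T ⊤ h = T.charpoly := by
  unfold cp
  rw [← LinearEquiv.charpoly_conj (Submodule.topEquiv (R := F) (M := V))]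
  congr 1

end semisimple

section hallsum

variable {F V : Type*} [Field F] [AddCommGroup V] [Module F V] [FiniteDimensional F V]
  (T : Module.End F V)

open Classical in
/-- the number of `T`-stable chains of subspaces with a given set of dimensions -/
noncomputable def chainCount (D : Finset ℕ) : ℕ :=
  Nat.card {C : Finset (Submodule F V) // IsChain (· ≤ ·) (C : Set (Submodule F V)) ∧
    (∀ W ∈ C, W ∈ T.invtSubmodule) ∧ C.image (fun W : Submodule F V => finrank F W) = D}

open Classical in
/-- dimensions of the members of a set of invariant subspaces -/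
noncomputable def dimsL (C : Finset ↥T.invtSubmodule) : Finset ℕ :=
  C.image (fun c : ↥T.invtSubmodule => finrank F c.1)

theorem finrank_injOn_chain (C : Finset ↥T.invtSubmodule)
    (hC : IsChain (· ≤ ·) (C : Set ↥T.invtSubmodule)) :
    Set.InjOn (fun c : ↥T.invtSubmodule => finrank F c.1) (C : Set ↥T.invtSubmodule) := by
  intro a ha b hb hab
  rcases hC.total ha hb with h | h
  · exact Subtype.ext (Submodule.eq_of_le_of_finrank_eq h hab)
  · exact (Subtype.ext (Submodule.eq_of_le_of_finrank_eq h hab.symm)).symm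

open Classical in
/-- the chains of the lattice of invariant subspaces with given dimensions -/
theorem card_chains_dims [Fintype ↥T.invtSubmodule] (D : Finset ℕ)
    (hD : D ∈ (Finset.Icc 1 (finrank F V)).powerset.filter (fun D => finrank F V ∈ D))
    (A : Finset (Finset ↥T.invtSubmodule))
    (hA : ∀ C, C ∈ A ↔ (IsChain (· ≤ ·) (C : Set ↥T.invtSubmodule) ∧ ⊥ ∉ C ∧ ⊤ ∈ C ∧
      ∀ c ∈ C, c ≤ ⊤)) :
    (A.filter (fun C => dimsL T C = D)).card = chainCount T D := by
  rw [mem_filter, mem_powerset] at hD
  obtain ⟨hD1, hDn⟩ := hD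
  unfold chainCount
  rw [← Nat.card_eq_finsetCard]
  apply Nat.card_congr
  refine ⟨fun C => ⟨C.1.map (Function.Embedding.subtype _), ?_, ?_, ?_⟩,
    fun C' => ⟨C'.1.subtype (· ∈ T.invtSubmodule), ?_⟩, ?_, ?_⟩
  · -- chain
    have hC := ((hA C.1).1 (mem_filter.1 C.2).1).1
    intro a ha b hb _
    rw [Finset.mem_coe, Finset.mem_map] at ha hb
    obtain ⟨c, hc, rfl⟩ := ha
    obtain ⟨c', hc', rfl⟩ := hb
    rcases hC.total (Finset.mem_coe.2 hc) (Finset.mem_coe.2 hc') with h | h
    · exact Or.inl h
    · exact Or.inr h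
  · intro W hW
    rw [Finset.mem_map] at hW
    obtain ⟨c, -, rfl⟩ := hW
    exact c.2
  · have h2 := (mem_filter.1 C.2).2
    refine Eq.trans ?_ h2
    rw [dimsL, Finset.map_eq_image, Finset.image_image]
    rfl
  · rw [mem_filter, hA]
    obtain ⟨hC', hinv, hdim⟩ := C'.2
    have hmap : (C'.1.subtype (· ∈ T.invtSubmodule)).map (Function.Embedding.subtype _) = C'.1 :=
      Finset.subtype_map_of_mem hinv
    refine ⟨⟨?_, ?_, ?_, fun c _ => le_top⟩, ?_⟩
    · intro a ha b hb _
      rw [Finset.mem_coe, Finset.mem_subtype] at ha hb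
      rcases hC'.total (Finset.mem_coe.2 ha) (Finset.mem_coe.2 hb) with h | h
      · exact Or.inl h
      · exact Or.inr h
    · intro hbot
      rw [Finset.mem_subtype] at hbot
      have h0 : (0 : ℕ) ∈ D := by
        rw [← hdim, Finset.mem_image]
        exact ⟨_, hbot, finrank_bot F V⟩
      have := hD1 h0
      rw [Finset.mem_Icc] at this
      omega
    · rw [Finset.mem_subtype]
      rw [← hdim, Finset.mem_image] at hDn
      obtain ⟨W, hW, hWn⟩ := hDn
      have : W = ⊤ := Submodule.eq_top_of_finrank_eq hWn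
      rw [this] at hW
      exact hW
    · refine Eq.trans ?_ hdim
      have h3 : image (fun W : Submodule F V => finrank F W)
          ((C'.1.subtype (· ∈ T.invtSubmodule)).map (Function.Embedding.subtype _)) =
          image (fun W : Submodule F V => finrank F W) C'.1 := by rw [hmap]
      refine Eq.trans ?_ h3
      rw [dimsL, Finset.map_eq_image, Finset.image_image]
      rfl
  · intro C
    apply Subtype.ext
    ext c
    simp only [Finset.mem_subtype, Finset.mem_map, Function.Embedding.coe_subtype]
    constructor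
    · rintro ⟨c', hc', h⟩
      have : c' = c := Subtype.ext h
      rw [← this]
      exact hc'
    · intro h
      exact ⟨c, h, rfl⟩
  · intro C'
    apply Subtype.ext
    exact Finset.subtype_map_of_mem C'.2.2.1

/-- **Hall's theorem for the lattice of invariant subspaces, grouped by dimension sets** -/
theorem mu_top_eq [LocallyFiniteOrder ↥T.invtSubmodule] [DecidableEq ↥T.invtSubmodule]
    [Fintype ↥T.invtSubmodule] (hV : 1 ≤ finrank F V) :
    IncidenceAlgebra.mu ℤ (⊥ : ↥T.invtSubmodule) ⊤ =
      ∑ D ∈ (Finset.Icc 1 (finrank F V)).powerset.filter (fun D => finrank F V ∈ D),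
        (-1 : ℤ) ^ D.card * (chainCount T D : ℤ) := by
  classical
  have htop : (⊤ : ↥T.invtSubmodule) ≠ ⊥ := by
    intro h
    have h1 : (⊤ : Submodule F V) = ⊥ := congrArg Subtype.val h
    have h2 : finrank F (⊤ : Submodule F V) = 0 := by rw [h1, finrank_bot]
    rw [finrank_top] at h2
    omega
  rw [hall (⊤ : ↥T.invtSubmodule) htop]
  refine (Finset.sum_fiberwise_of_maps_to (g := dimsL T)
    (t := (Finset.Icc 1 (finrank F V)).powerset.filter (fun D => finrank F V ∈ D)) ?_ _).symm.trans ?_
  · intro C hC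
    rw [mem_filter] at hC
    obtain ⟨-, hch, hbot, htopC, -⟩ := hC
    rw [mem_filter, mem_powerset]
    constructor
    · intro d hd
      rw [dimsL, Finset.mem_image] at hd
      obtain ⟨c, hc, rfl⟩ := hd
      rw [Finset.mem_Icc]
      constructor
      · apply finrank_pos_of_ne_bot
        intro h0
        apply hbot
        have : c = ⊥ := Subtype.ext h0
        rw [← this]
        exact hc
      · exact Submodule.finrank_le _
    · rw [dimsL, Finset.mem_image]
      exact ⟨⊤, htopC, finrank_top F V⟩
  · apply Finset.sum_congr rfl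
    intro D hD
    have h1 : ∀ C ∈ ((Finset.univ : Finset (Finset ↥T.invtSubmodule)).filter
        (fun C : Finset ↥T.invtSubmodule => IsChain (· ≤ ·) (C : Set ↥T.invtSubmodule) ∧
          ⊥ ∉ C ∧ ⊤ ∈ C ∧ ∀ c ∈ C, c ≤ ⊤)).filter (fun C => dimsL T C = D),
        (-1 : ℤ) ^ C.card = (-1 : ℤ) ^ D.card := by
      intro C hC
      rw [mem_filter, mem_filter] at hC
      obtain ⟨⟨-, hch, -⟩, hdim⟩ := hC
      rw [← hdim, dimsL, Finset.card_image_of_injOn (finrank_injOn_chain T C hch)]
    rw [Finset.sum_congr rfl h1, Finset.sum_const, nsmul_eq_mul, mul_comm]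
    congr 2
    apply card_chains_dims T D hD
    intro C
    rw [mem_filter]
    simp only [Finset.mem_univ, true_and]

end hallsum

section main

variable {F : Type*} [Field F] [Fintype F] {n : ℕ}

theorem sum_hessenberg_comp (κ : Equiv.Perm (Fin n)) (hκ : ∀ i : Fin n, (κ i).val ≤ 1 + i.val) :
    ∑ i : Fin n, (1 + i.val - (κ i).val) = n := by
  have h1 : ∑ i : Fin n, (1 + i.val - (κ i).val) + ∑ i : Fin n, (κ i).val =
      ∑ i : Fin n, (1 + i.val) := by
    rw [← Finset.sum_add_distrib]
    apply Finset.sum_congr rfl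
    intro i _
    exact Nat.sub_add_cancel (hκ i)
  have h2 : ∑ i : Fin n, (κ i).val = ∑ i : Fin n, i.val := Equiv.sum_comp κ (fun i => i.val)
  rw [h2, Finset.sum_add_distrib] at h1
  simp only [Finset.sum_const, Finset.card_univ, Fintype.card_fin, smul_eq_mul, mul_one] at h1
  omega

theorem toLin'_pow (M : Matrix (Fin n) (Fin n) F) (k : ℕ) :
    Matrix.toLin' (M ^ k) = (Matrix.toLin' M) ^ k := by
  induction k with
  | zero => rw [pow_zero, pow_zero, Matrix.toLin'_one]; rfl
  | succ k ih => rw [pow_succ, pow_succ, Matrix.toLin'_mul, ih]; rfl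

open Classical in
/-- the value of the Steinberg character at a `p`-regular element via the Möbius function -/
theorem steinberg_value (p : ℕ) [Fact p.Prime] [CharP F p] (hn : 1 ≤ n) (x : GL (Fin n) F)
    (hx : (orderOf x).Coprime p) :
    unipotentCharacterGL n F (fun _ => 1) x =
      (-1 : ℂ) ^ n *
        ((muVal (Fintype.card F) (x : Matrix (Fin n) (Fin n) F).charpoly : ℤ) : ℂ) := by
  have hss : RelCompl (Matrix.toLin' (x : Matrix (Fin n) (Fin n) F)) := by
    apply relCompl_of_pow_eq_one _ (orderOf x)
    · intro h0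
      rw [CharP.cast_eq_zero_iff F p] at h0
      exact ((Nat.Prime.coprime_iff_not_dvd (Fact.out : p.Prime)).1 hx.symm) h0
    · rw [← toLin'_pow, ← Units.val_pow_eq_pow_val, pow_orderOf_eq_one, Units.val_one,
        Matrix.toLin'_one]
      rfl
  -- Step 1: parabolic fixed points
  have h1 : ∀ κ : Equiv.Perm (Fin n),
      (if ∀ i : Fin n, (κ i).val ≤ 1 + i.val then
        ((Equiv.Perm.sign κ : ℤ) : ℂ) *
          fixedPointCharacter (parabolicGL n F fun i => 1 + i.val - (κ i).val) x else 0) =
      (if ∀ i : Fin n, (κ i).val ≤ 1 + i.val then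
        ((Equiv.Perm.sign κ : ℤ) : ℂ) *
          (fun D : Finset ℕ =>
            ((chainCount (Matrix.toLin' (x : Matrix (Fin n) (Fin n) F)) D : ℕ) : ℂ))
            (dimSet (fun i : Fin n => 1 + i.val - (κ i).val)) else 0) := by
    intro κ
    by_cases h : ∀ i : Fin n, (κ i).val ≤ 1 + i.val
    · rw [if_pos h, if_pos h, fixedPointCharacter_parabolic (sum_hessenberg_comp κ h) x]
      rfl
    · rw [if_neg h, if_neg h]
  change (∑ κ : Equiv.Perm (Fin n), if ∀ i : Fin n, (κ i).val ≤ 1 + i.val then
      ((Equiv.Perm.sign κ : ℤ) : ℂ) *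
        fixedPointCharacter (parabolicGL n F fun i => 1 + i.val - (κ i).val) x else 0) = _
  have hK := hessenberg_sum (R := ℂ) n hn (fun D : Finset ℕ =>
    ((chainCount (Matrix.toLin' (x : Matrix (Fin n) (Fin n) F)) D : ℕ) : ℂ))
  rw [Finset.sum_congr rfl (fun κ _ => h1 κ)]
  refine Eq.trans ?_ (hK.trans ?_)
  · apply Finset.sum_congr rfl
    intro κ _
    congr
  -- Step 2: Hall + Möbius
  have fin : Fintype ↥(Module.End.invtSubmodule (Matrix.toLin' (x : Matrix (Fin n) (Fin n) F))) :=
    Fintype.ofFinite _
  have lfo : LocallyFiniteOrder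
      ↥(Module.End.invtSubmodule (Matrix.toLin' (x : Matrix (Fin n) (Fin n) F))) :=
    Fintype.toLocallyFiniteOrder
  have hV : 1 ≤ finrank F (Fin n → F) := by rw [Module.finrank_fin_fun]; exact hn
  have hhall := mu_top_eq (Matrix.toLin' (x : Matrix (Fin n) (Fin n) F)) hV
  have hmu := mu_invt (Matrix.toLin' (x : Matrix (Fin n) (Fin n) F)) hss _ ⊤
    (Module.End.invtSubmodule.top_mem _) rfl
  rw [cp_top, Matrix.charpoly_toLin'] at hmu
  have htop : (⟨⊤, Module.End.invtSubmodule.top_mem _⟩ :
      ↥(Module.End.invtSubmodule (Matrix.toLin' (x : Matrix (Fin n) (Fin n) F)))) = ⊤ := rfl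
  rw [htop, hhall] at hmu
  rw [← hmu]
  simp only [Module.finrank_fin_fun]
  push_cast
  rw [Finset.mul_sum]
  apply Finset.sum_congr rfl
  intro D hD
  rw [mem_filter, mem_powerset] at hD
  have hcard : D.card ≤ n := by
    have := Finset.card_le_card hD.1
    rw [Nat.card_Icc] at this
    omega
  have hsign : (-1 : ℂ) ^ (n - D.card) = (-1 : ℂ) ^ n * (-1 : ℂ) ^ D.card := by
    have h2 : n = (n - D.card) + D.card := by omega
    conv_rhs => rw [h2]
    rw [pow_add, mul_assoc, ← pow_add, ← two_mul, pow_mul]
    simp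
  rw [hsign, mul_assoc]

end main

end Cfsg.Agent.Helper40.StVal
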